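/- helper555: general facts on finite 2-transitive groups (HUB H1, part P10) -/
import Mathlib.GroupTheory.GroupAction.MultipleTransitivity
import Mathlib.GroupTheory.GroupAction.Jordan
import Mathlib.GroupTheory.Index
import Mathlib.GroupTheory.GroupAction.Quotient
import Cfsg.Agent.Prune
set_option linter.all false
prune_inst 0x7f00000000000000000000000000000000000000000000000000000000000000000000000000000000000000000000000000000000000000000000000000000000000000000000000000000000000000003fffffffffffffffffffffffffffbeffbdffffffff
open scoped Cfsg.Agent.FastGrp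

set_option autoImplicit false

namespace Cfsg.Agent.H555.AltTwo

open MulAction

universe u v
variable {G : Type u} {Ω : Type v} [Group G] [MulAction G Ω]

theorem two_of (h2 : IsMultiplyPretransitive G Ω 2) {a b c d : Ω} (hab : a ≠ b) (hcd : c ≠ d) :
    ∃ g : G, g • a = c ∧ g • b = d := by
  rw [is_two_pretransitive_iff] at h2
  exact h2 hab hcd

/-- `n (n - 1)` divides the order -/
theorem card_mul_dvd [Finite G] [Finite Ω] (h2 : IsMultiplyPretransitive G Ω 2) (hn : 2 ≤ Nat.card Ω) :
    Nat.card Ω * (Nat.card Ω - 1) ∣ Nat.card G := by
  classical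
  have := Fintype.ofFinite Ω
  have := Fintype.ofFinite G
  have hne : Nontrivial Ω := by
    rw [← Finite.one_lt_card_iff_nontrivial]; omega
  obtain ⟨a, b, hab⟩ := exists_pair_ne Ω
  have : IsPretransitive G Ω := isPretransitive_of_is_two_pretransitive
  have h1 : Nat.card Ω = (stabilizer G a).index := (index_stabilizer_of_transitive G a).symm
  rw [← Subgroup.index_mul_card (stabilizer G a), ← h1]
  apply Nat.mul_dvd_mul_left
  -- the stabilizer acts transitively on the other points
  have h3 : Nat.card (orbit (stabilizer G a) b) = Nat.card Ω - 1 := by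
    have h4 : (orbit (stabilizer G a) b : Set Ω) = {x | x ≠ a} := by
      ext x
      constructor
      · rintro ⟨g, rfl⟩ h
        apply hab
        have h5 : (g : G) • a = a := g.2
        have h6 : (g : G) • b = a := h
        have h7 : (g : G) • a = (g : G) • b := h5.trans h6.symm
        exact smul_left_cancel _ h7
      · intro hx
        obtain ⟨g, hg1, hg2⟩ := two_of h2 hab (Ne.symm hx)
        exact ⟨⟨g, hg1⟩, hg2⟩
    rw [h4]
    change Nat.card {x : Ω // x ≠ a} = _
    rw [Nat.card_eq_fintype_card, Nat.card_eq_fintype_card, Fintype.card_subtype_compl]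
    simp
  rw [← h3, Nat.card_congr (orbitEquivQuotientStabilizer (stabilizer G a) b)]
  exact Subgroup.card_quotient_dvd_card _

/-- a normal subgroup `≠ 1` of a faithful 2-transitive group is transitive -/
theorem transitive_of_normal (h2 : IsMultiplyPretransitive G Ω 2) [FaithfulSMul G Ω]
    (N : Subgroup G) [N.Normal] (hN : N ≠ ⊥) : IsPretransitive N Ω := by
  have := isPreprimitive_of_is_two_pretransitive h2
  have hq : IsQuasiPreprimitive G Ω := inferInstance
  apply IsQuasiPreprimitive.isPretransitive_of_normal (G := G)
  intro hfix
  apply hN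
  rw [eq_bot_iff]
  intro g hg
  rw [Subgroup.mem_bot]
  apply FaithfulSMul.eq_of_smul_eq_smul (α := Ω)
  intro x
  have : x ∈ fixedPoints N Ω := by rw [hfix]; trivial
  rw [one_smul]
  exact this ⟨g, hg⟩

end Cfsg.Agent.H555.AltTwo
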